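import Mathlib
import Cfsg.Prelude.Def_Involutions
import Cfsg.Agent.S4738
import Cfsg.Agent.Lib.Invol.StronglyEmbedded
import Cfsg.Agent.Lib.Grp.Basic

/-!
# Transitive groups of prime power degree with odd centralisers of `p`-elements

Without characters of `p`-defect zero the Sylow `p`-subgroups are regular, all involutions are
conjugate and each of them fixes exactly one point; so point stabilisers are strongly embedded.
-/

set_option autoImplicit false
set_option linter.unusedSectionVars false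
set_option linter.style.haveILetI false

open Cfsg
open scoped Pointwise

namespace Cfsg.Agent.Block.PPowerTrans

universe u v

variable {G : Type u} [Group G] {Ω : Type v} [MulAction G Ω]

/-- The standing hypotheses. -/
structure Hyp (G : Type u) [Group G] (Ω : Type v) [MulAction G Ω] [Fintype Ω] (p r : ℕ) : Prop where
  faith : FaithfulSMul G Ω
  tr : MulAction.IsPretransitive G Ω
  prime : p.Prime
  odd : p ≠ 2
  rpos : 1 ≤ r
  deg : Fintype.card Ω = p ^ r
  even : 2 ∣ Nat.card G
  apart : ∀ g : G, g ≠ 1 → (∃ k : ℕ, orderOf g = p ^ k) →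
    Odd (Nat.card ↥(Subgroup.centralizer ({g} : Set G)))
  noDefectZero : ¬ ∃ χ : IrrCharacter G,
    (charDegree (χ : G → ℂ)).factorization p = (Nat.card G).factorization p

variable [Finite G] [Fintype Ω] {p r : ℕ} [Fact p.Prime]

theorem Hyp.not_comm (h : Hyp G Ω p r) {t x : G} (ht : orderOf t = 2) (hx1 : x ≠ 1)
    (hx : ∃ k : ℕ, orderOf x = p ^ k) (hc : t * x = x * t) : False := by
  have hmem : t ∈ Subgroup.centralizer ({x} : Set G) :=
    Subgroup.mem_centralizer_singleton_iff.2 hc
  have h2 := orderOf_dvd_natCard (⟨t, hmem⟩ : Subgroup.centralizer ({x} : Set G))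
  rw [← Subgroup.orderOf_coe, Subgroup.coe_mk, ht] at h2
  exact (Nat.not_even_iff_odd.2 (h.apart x hx1 hx)) (even_iff_two_dvd.2 h2)

theorem Hyp.no_two_p (h : Hyp G Ω p r) (g : G) : orderOf g ≠ 2 * p := by
  intro hg
  have hp := h.prime
  have h1 : orderOf (g ^ 2) = p := by
    rw [orderOf_pow_of_dvd (by norm_num) (by rw [hg]; exact dvd_mul_right _ _), hg,
      Nat.mul_div_cancel_left _ (by norm_num)]
  have h2 : orderOf (g ^ p) = 2 := by
    rw [orderOf_pow_of_dvd hp.ne_zero (by rw [hg]; exact dvd_mul_left _ _), hg,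
      Nat.mul_div_cancel _ hp.pos]
  exact h.not_comm h2 (fun e => by rw [e, orderOf_one] at h1; exact hp.ne_one h1.symm)
    ⟨1, by rw [h1, pow_one]⟩ ((Commute.refl g).pow_pow p 2).eq

/-- An inverting involution in every conjugacy class of involutions. -/
theorem Hyp.inverter (h : Hyp G Ω p r) (P : Sylow p G) {t : G} (ht : orderOf t = 2) :
    ∃ g : G, orderOf (g * t * g⁻¹) = 2 ∧
      ∀ u ∈ (P : Subgroup G), (g * t * g⁻¹) * u * (g * t * g⁻¹)⁻¹ = u⁻¹ :=
  S4738.inverted_sylow p h.odd h.no_two_p h.noDefectZero P t ht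

theorem Hyp.conj_invol (h : Hyp G Ω p r) {s t : G} (hs : orderOf s = 2) (ht : orderOf t = 2) :
    IsConj s t := by
  rcases S4738.result p h.odd (even_iff_two_dvd.2 h.even) h.no_two_p with hd | ⟨-, hc⟩
  · exact absurd hd h.noDefectZero
  · exact hc s t hs ht

theorem Hyp.sylow_comm (h : Hyp G Ω p r) (P : Sylow p G) {a b : G} (ha : a ∈ (P : Subgroup G))
    (hb : b ∈ (P : Subgroup G)) : a * b = b * a := by
  rcases S4738.result p h.odd (even_iff_two_dvd.2 h.even) h.no_two_p with hd | ⟨hab, -⟩
  · exact absurd hd h.noDefectZero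
  · exact congrArg Subtype.val ((hab P).is_comm.comm ⟨a, ha⟩ ⟨b, hb⟩)

theorem Hyp.index_stab (h : Hyp G Ω p r) (ω : Ω) : (MulAction.stabilizer G ω).index = p ^ r := by
  haveI := h.tr
  rw [MulAction.index_stabilizer_of_transitive, Nat.card_eq_fintype_card, h.deg]

/-- A Sylow `p`-subgroup is regular. -/
theorem Hyp.regular (h : Hyp G Ω p r) (P : Sylow p G) :
    (∀ ω ω' : Ω, ∃ a ∈ (P : Subgroup G), a • ω = ω') ∧
      (∀ a ∈ (P : Subgroup G), ∀ ω : Ω, a • ω = ω → a = 1) := by
  classical
  haveI := h.tr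
  haveI := h.faith
  have hp := h.prime
  have htr : ∀ ω : Ω, MulAction.orbit (P : Subgroup G) ω = Set.univ := by
    intro ω
    set S := MulAction.stabilizer (P : Subgroup G) ω with hS
    obtain ⟨a, ha⟩ := IsPGroup.iff_card.1 P.isPGroup'
    obtain ⟨b, hb⟩ := IsPGroup.iff_card.1 (P.isPGroup'.to_subgroup S)
    have hbH : p ^ b ∣ Nat.card (MulAction.stabilizer G ω) := by
      rw [← hb]
      refine Subgroup.card_dvd_of_injective
        (f := ((P : Subgroup G).subtype.comp S.subtype).codRestrict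
          (MulAction.stabilizer G ω) (fun x => x.2)) fun x y e => ?_
      exact Subtype.ext (Subtype.ext (congrArg Subtype.val e :))
    have hG := (MulAction.stabilizer G ω).card_mul_index
    rw [h.index_stab ω] at hG
    have hGP := (P : Subgroup G).card_mul_index
    rw [ha] at hGP
    have hle : b + r ≤ a := by
      have h1 : p ^ (b + r) ∣ Nat.card G := by
        rw [pow_add, ← hG]; exact Nat.mul_dvd_mul_right hbH _
      rw [← hGP] at h1
      have h2 := ((hp.coprime_iff_not_dvd.2 P.not_dvd_index).pow_left (b + r)).dvd_of_dvd_mul_right h1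
      exact (Nat.pow_dvd_pow_iff_le_right hp.one_lt).1 h2
    have horb : Nat.card (MulAction.orbit (P : Subgroup G) ω) * Nat.card S = p ^ a := by
      rw [← ha, Nat.card_coe_set_eq, ← MulAction.index_stabilizer, mul_comm]
      exact S.card_mul_index
    rw [hb] at horb
    have hsub := Nat.card_le_card_of_injective (Subtype.val : MulAction.orbit (P : Subgroup G) ω → Ω)
      Subtype.val_injective
    rw [Nat.card_eq_fintype_card (α := Ω), h.deg] at hsub
    refine Set.eq_univ_of_forall fun w => ?_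
    have hge : p ^ r ≤ Nat.card (MulAction.orbit (P : Subgroup G) ω) := by
      have : p ^ r * p ^ b ≤ Nat.card (MulAction.orbit (P : Subgroup G) ω) * p ^ b := by
        rw [horb, ← pow_add]
        exact Nat.pow_le_pow_right hp.pos (by omega)
      exact Nat.le_of_mul_le_mul_right this (pow_pos hp.pos _)
    have hb' : Function.Bijective (Subtype.val : MulAction.orbit (P : Subgroup G) ω → Ω) := by
      haveI := Fintype.ofFinite (MulAction.orbit (P : Subgroup G) ω)
      refine (Fintype.bijective_iff_injective_and_card _).2 ⟨Subtype.val_injective, ?_⟩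
      rw [← Nat.card_eq_fintype_card, h.deg]
      exact le_antisymm hsub hge
    obtain ⟨x, rfl⟩ := hb'.2 w
    exact x.2
  have hex : ∀ ω ω' : Ω, ∃ a ∈ (P : Subgroup G), a • ω = ω' := by
    intro ω ω'
    obtain ⟨a, ha⟩ := (htr ω).symm ▸ Set.mem_univ ω'
    exact ⟨a, a.2, ha⟩
  refine ⟨hex, fun a ha ω hω => FaithfulSMul.eq_of_smul_eq_smul (α := Ω) fun w => ?_⟩
  obtain ⟨b, hb, rfl⟩ := hex ω w
  rw [one_smul, smul_smul, h.sylow_comm P ha hb, ← smul_smul, hω]

theorem Hyp.card_sylow (h : Hyp G Ω p r) (P : Sylow p G) : Nat.card (P : Subgroup G) = p ^ r := by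
  haveI := h.tr
  obtain ⟨ω⟩ : Nonempty Ω := Fintype.card_pos_iff.1 (h.deg ▸ pow_pos h.prime.pos r)
  obtain ⟨hex, hfree⟩ := h.regular P
  rw [← h.deg, ← Nat.card_eq_fintype_card]
  refine Nat.card_eq_of_bijective (fun a : (P : Subgroup G) => (a : G) • ω) ⟨fun a b e => ?_, fun w => ?_⟩
  · have h1 : ((b : G)⁻¹ * a) • ω = ω := by
      rw [← smul_smul, show (a : G) • ω = (b : G) • ω from e, inv_smul_smul]
    exact (Subtype.ext (inv_mul_eq_one.1 (hfree _ (mul_mem (inv_mem b.2) a.2) ω h1))).symm
  · obtain ⟨a, ha, e⟩ := hex ω w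
    exact ⟨⟨a, ha⟩, e⟩

theorem Hyp.factorization_card (h : Hyp G Ω p r) : (Nat.card G).factorization p = r := by
  obtain ⟨P⟩ : Nonempty (Sylow p G) := inferInstance
  have h1 := P.card_eq_multiplicity
  rw [h.card_sylow P] at h1
  exact (Nat.pow_right_injective h.prime.two_le h1).symm

/-- An involution has exactly one fixed point. -/
theorem Hyp.fix_unique (h : Hyp G Ω p r) {t : G} (ht : orderOf t = 2) : ∃! ω : Ω, t • ω = ω := by
  classical
  obtain ⟨P⟩ : Nonempty (Sylow p G) := inferInstance
  obtain ⟨g, hg, hinv⟩ := h.inverter P ht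
  set s := g * t * g⁻¹ with hs
  obtain ⟨hex, hfree⟩ := h.regular P
  have hs2 : s * s = 1 := by rw [← sq, ← hg, pow_orderOf_eq_one]
  have hfix : ∃ w : Ω, s • w = w := by
    by_contra hno
    push Not at hno
    have h2 : 2 ∣ Fintype.card Ω := by
      have h1 := Equiv.Perm.two_dvd_card_support (σ := (MulAction.toPerm s : Equiv.Perm Ω))
        (Equiv.ext fun w => by simp [sq, smul_smul, hs2])
      rwa [show (MulAction.toPerm s : Equiv.Perm Ω).support = Finset.univ from
        Finset.eq_univ_of_forall fun w => Equiv.Perm.mem_support.2 (by simpa using hno w),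
        Finset.card_univ] at h1
    rw [h.deg] at h2
    exact h.odd ((Nat.prime_dvd_prime_iff_eq Nat.prime_two h.prime).1 (Nat.prime_two.dvd_of_dvd_pow h2)).symm
  obtain ⟨w, hw⟩ := hfix
  have huniq : ∀ w' : Ω, s • w' = w' → w' = w := by
    intro w' hw'
    obtain ⟨a, ha, rfl⟩ := hex w w'
    have hsa : s * a = a⁻¹ * s := by
      have := hinv a ha
      rw [mul_inv_eq_iff_eq_mul] at this
      exact this
    have e : a⁻¹ • w = a • w := by
      rw [smul_smul, hsa, ← smul_smul, hw] at hw'
      exact hw'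
    have h1 : (a * a) • w = w := by rw [← smul_smul, ← e, smul_inv_smul]
    have ha2 := hfree _ (mul_mem ha ha) w h1
    have : a = 1 := by
      obtain ⟨k, hk⟩ := P.isPGroup'.exists_orderOf_eq_pow ⟨a, ha⟩
      rw [Subgroup.orderOf_mk] at hk
      have hd : orderOf a ∣ 2 := orderOf_dvd_of_pow_eq_one (by rw [sq, ha2])
      rw [hk] at hd
      rcases (Nat.dvd_prime Nat.prime_two).1 hd with e' | e'
      · exact orderOf_eq_one_iff.1 (hk.trans e')
      · exfalso
        rcases k with _ | k
        · simp at e'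
        · exact h.odd ((Nat.prime_dvd_prime_iff_eq h.prime Nat.prime_two).1 (e' ▸ dvd_pow_self p k.succ_ne_zero))
    rw [this, one_smul]
  refine ⟨g⁻¹ • w, ?_, fun w' hw' => ?_⟩
  · show t • g⁻¹ • w = g⁻¹ • w
    rw [← smul_left_cancel_iff g, smul_smul, smul_smul, smul_inv_smul]
    exact hw
  · rw [eq_inv_smul_iff]
    apply huniq
    rw [hs, smul_smul, inv_mul_cancel_right, ← smul_smul, hw']

/-- The index in a normal subgroup divides the index. -/
theorem relIndex_dvd_index (H N : Subgroup G) [N.Normal] : H.relIndex N ∣ H.index := by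
  have e1 := Subgroup.relIndex_mul_relIndex (⊥ : Subgroup G) H (H ⊔ N) bot_le le_sup_left
  have e2 := Subgroup.relIndex_mul_relIndex (⊥ : Subgroup G) N (H ⊔ N) bot_le le_sup_right
  have e3 := Subgroup.relIndex_mul_relIndex (⊥ : Subgroup G) (H ⊓ N) N bot_le inf_le_right
  have e4 := Subgroup.relIndex_mul_relIndex (⊥ : Subgroup G) (N ⊓ H) H bot_le inf_le_right
  rw [Subgroup.relIndex_sup_right] at e2
  rw [Subgroup.inf_relIndex_right] at e3 e4
  rw [← e2, ← e3, ← e4, inf_comm N H] at e1
  have e : H.relIndex N = H.relIndex (H ⊔ N) := by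
    have hpos : 0 < (⊥ : Subgroup G).relIndex (H ⊓ N) * N.relIndex H := by
      refine Nat.mul_pos (Nat.pos_of_ne_zero ?_) (Nat.pos_of_ne_zero ?_) <;>
        exact Subgroup.index_ne_zero_of_finite
    refine Nat.eq_of_mul_eq_mul_left hpos ?_
    rw [e1]; ring
  rw [e]
  exact Subgroup.relIndex_dvd_index_of_le le_sup_left

/-- The point stabiliser is strongly embedded, in every normal subgroup of even order. -/
theorem Hyp.stronglyEmbedded (h : Hyp G Ω p r) (N : Subgroup G) [hN : N.Normal]
    (hNe : 2 ∣ Nat.card N) :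
    (∀ ω ω' : Ω, ∃ n ∈ N, n • ω = ω') ∧
      ∀ ω : Ω, (MulAction.stabilizer N ω).index = p ^ r ∧
        IsStronglyEmbedded (MulAction.stabilizer N ω) := by
  classical
  haveI := h.tr
  obtain ⟨t', ht'⟩ := exists_prime_orderOf_dvd_card' 2 hNe
  have ht : orderOf (t' : G) = 2 := by rw [Subgroup.orderOf_coe, ht']
  obtain ⟨w₀, hw₀, huniq⟩ := h.fix_unique ht
  have hodd : ∀ w : Ω, Odd (MulAction.stabilizer N w).index := by
    intro w
    have h1 : (MulAction.stabilizer N w).index = (MulAction.stabilizer G w).relIndex N := by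
      rw [Subgroup.relIndex]
      congr 1
    have h2 : (MulAction.stabilizer G w).relIndex N ∣ (MulAction.stabilizer G w).index :=
      relIndex_dvd_index _ N
    rw [h.index_stab] at h2
    rw [h1]
    exact Odd.of_dvd_nat ((h.prime.odd_of_ne_two h.odd).pow) h2
  have hall : ∀ w : Ω, ∃ n ∈ N, n • w = w₀ := by
    intro w
    by_contra hno
    push Not at hno
    have h2 : 2 ∣ Nat.card (MulAction.orbit N w) := by
      haveI := Fintype.ofFinite (MulAction.orbit N w)
      let σ : Equiv.Perm (MulAction.orbit N w) := MulAction.toPerm t'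
      have hts : t' * t' = 1 := by rw [← sq, ← ht', pow_orderOf_eq_one]
      have h1 := Equiv.Perm.two_dvd_card_support (σ := σ) (Equiv.ext fun x => by
        simp [σ, sq, smul_smul, hts])
      have hs : σ.support = Finset.univ := by
        refine Finset.eq_univ_of_forall fun x => Equiv.Perm.mem_support.2 ?_
        obtain ⟨x, n, rfl⟩ := x
        intro hx
        refine hno n n.2 (huniq _ ?_)
        exact congrArg Subtype.val hx
      rwa [hs, Finset.card_univ, ← Nat.card_eq_fintype_card] at h1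
    rw [Nat.card_coe_set_eq, ← MulAction.index_stabilizer] at h2
    exact (Nat.not_even_iff_odd.2 (hodd w)) (even_iff_two_dvd.2 h2)
  have htrN : ∀ ω ω' : Ω, ∃ n ∈ N, n • ω = ω' := by
    intro ω ω'
    obtain ⟨n, hn, e⟩ := hall ω
    obtain ⟨m, hm, e'⟩ := hall ω'
    exact ⟨m⁻¹ * n, mul_mem (inv_mem hm) hn, by rw [← smul_smul, e, ← e', inv_smul_smul]⟩
  refine ⟨htrN, fun ω => ?_⟩
  haveI : MulAction.IsPretransitive N Ω := ⟨fun a b => by
    obtain ⟨n, hn, e⟩ := htrN a b; exact ⟨⟨n, hn⟩, e⟩⟩
  have hidx : (MulAction.stabilizer N ω).index = p ^ r := by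
    rw [MulAction.index_stabilizer_of_transitive, Nat.card_eq_fintype_card, h.deg]
  refine ⟨hidx, ?_⟩
  have hne : MulAction.stabilizer N ω ≠ ⊤ := by
    intro e
    rw [e, Subgroup.index_top] at hidx
    exact (Nat.one_lt_pow (by have := h.rpos; omega) h.prime.one_lt).ne hidx
  have heven : Even (Nat.card (MulAction.stabilizer N ω)) := by
    rw [even_iff_two_dvd]
    rw [← (MulAction.stabilizer N ω).card_mul_index, hidx] at hNe
    exact ((Nat.coprime_primes Nat.prime_two h.prime).2 h.odd.symm).pow_right r |>.dvd_of_dvd_mul_right hNe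
  rw [Invol.isStronglyEmbedded_iff hne heven]
  intro s hs hs2 g hg
  rw [MulAction.mem_stabilizer_iff] at hs hg ⊢
  have hs2' : orderOf (s : G) = 2 := by rw [Subgroup.orderOf_coe, hs2]
  obtain ⟨w, -, hu⟩ := h.fix_unique hs2'
  have e1 : (s : G) • (g • ω) = g • ω := by
    show s • g • ω = g • ω
    rw [← smul_smul, ← smul_smul] at hg
    exact inv_smul_eq_iff.1 hg
  exact (hu _ e1).trans (hu _ hs).symm

end Cfsg.Agent.Block.PPowerTrans
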