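import Cfsg.Prelude.Def_Local
import Cfsg.Prelude.Def_Exceptional
import Cfsg.Agent.S0205
import Cfsg.Agent.S1950
import Cfsg.Agent.Lib.Fus.ResidualSeries
import Cfsg.Agent.Lib.Fus.TransitivityOdd
import Cfsg.Agent.Lib.Grp.Cores
import Cfsg.Agent.Lib.Block.DegreeRel.Keys
import Cfsg.Agent.Lib.Char.OneSeen.Values
import Cfsg.Agent.Lib.Block.SL2Char.PSLDegrees
import Cfsg.Agent.Lib.Classical.UnitMultThreeGen
import Cfsg.Agent.Lib.Classical.UnitCenter
import Cfsg.Agent.Lib.Invol.RegularInversionFamilies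
import Cfsg.Agent.Lib.Block.PPowerTrans.Basic

/-!
# Transitive groups of prime power degree: the two cases

`s4745_of` deduces the statement from the classification of simple groups with a strongly embedded
subgroup.
-/

set_option autoImplicit false
set_option linter.unusedSectionVars false
set_option linter.style.haveILetI false

open Cfsg Cfsg.Agent.Block.DegreeRel

namespace Cfsg.Agent.Block.PPowerTrans

universe u v

variable {G : Type u} [Group G] {Ω : Type v} [MulAction G Ω] [Finite G] [Fintype Ω] {p r : ℕ}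
  [Fact p.Prime]

theorem eq_one_of_sq {a : G} (ha : Odd (orderOf a)) (h : a * a = 1) : a = 1 := by
  rw [← orderOf_eq_one_iff]
  have hd : orderOf a ∣ 2 := orderOf_dvd_of_pow_eq_one (by rw [sq, h])
  rcases (Nat.dvd_prime Nat.prime_two).1 hd with e | e
  · exact e
  · rw [e] at ha; exact absurd ha (by decide)

/-- A normal abelian `p`-subgroup gives `p`-solvability and a character of `2`-defect zero. -/
theorem Hyp.abelian_case (h : Hyp G Ω p r) (N : Subgroup G) [hN : N.Normal] (hN1 : N ≠ ⊥)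
    (hNp : IsPGroup p N) :
    IsPSolvable p G ∧ ∃ χ : IrrCharacter G,
      (charDegree (χ : G → ℂ)).factorization 2 = (Nat.card G).factorization 2 := by
  classical
  haveI := Fintype.ofFinite G
  haveI := Fintype.ofFinite N
  obtain ⟨P, hP⟩ := hNp.exists_le_sylow
  have hNab : ∀ a ∈ N, ∀ b ∈ N, a * b = b * a := fun a ha b hb => h.sylow_comm P (hP ha) (hP hb)
  have hord : ∀ a ∈ N, ∃ k : ℕ, orderOf a = p ^ k := fun a ha => by
    obtain ⟨k, hk⟩ := hNp.exists_orderOf_eq_pow ⟨a, ha⟩
    exact ⟨k, by rw [← Subgroup.orderOf_mk a ha, hk]⟩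
  have hoddN : ∀ a ∈ N, Odd (orderOf a) := fun a ha => by
    obtain ⟨k, hk⟩ := hord a ha
    rw [hk]; exact (h.prime.odd_of_ne_two h.odd).pow
  -- every involution inverts `N`
  have hinv : ∀ t : G, orderOf t = 2 → ∀ a ∈ N, t * a * t⁻¹ = a⁻¹ := by
    intro t ht a ha
    have htt : t * t = 1 := by rw [← sq, ← ht, pow_orderOf_eq_one]
    have hti : t⁻¹ = t := inv_eq_of_mul_eq_one_right htt
    let φ : N →* N := MonoidHom.mk' (fun z => ⟨t * z * t⁻¹, hN.conj_mem z z.2 t⟩)
      fun x y => Subtype.ext (by simp [mul_assoc])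
    have hinvo : Function.Involutive φ := fun z => Subtype.ext (by
      show t * (t * (z : G) * t⁻¹) * t⁻¹ = z
      rw [show t * (t * (z : G) * t⁻¹) * t⁻¹ = (t * t) * z * (t * t)⁻¹ by group, htt]
      group)
    have hfpf : MonoidHom.FixedPointFree φ := fun z hz => by
      by_contra hz1
      refine h.not_comm ht (fun e => hz1 (Subtype.ext e)) (hord _ z.2) ?_
      have e : t * (z : G) * t⁻¹ = z := congrArg Subtype.val hz
      rwa [mul_inv_eq_iff_eq_mul] at e
    exact congrArg Subtype.val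
      (congrFun (MonoidHom.FixedPointFree.coe_eq_inv_of_involutive hfpf hinvo) ⟨a, ha⟩)
  set C := Subgroup.centralizer (N : Set G) with hC
  haveI : C.Normal := Subgroup.normal_centralizer
  obtain ⟨⟨x, hx⟩, hx1⟩ := N.ne_bot_iff_exists_ne_one.1 hN1
  have hx1' : x ≠ 1 := fun e => hx1 (Subtype.ext e)
  have hCodd : Odd (Nat.card C) :=
    Odd.of_dvd_nat (h.apart x hx1' (hord x hx)) (Subgroup.card_dvd_of_le
      (Subgroup.centralizer_le (Set.singleton_subset_iff.2 hx)))
  obtain ⟨t, ht⟩ := exists_prime_orderOf_dvd_card' 2 h.even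
  have htt : t * t = 1 := by rw [← sq, ← ht, pow_orderOf_eq_one]
  have hti : t⁻¹ = t := inv_eq_of_mul_eq_one_right htt
  -- the centraliser of an involution covers the quotient
  have hcover : ∀ g : G, ∃ d ∈ C, d⁻¹ * g ∈ Subgroup.centralizer ({t} : Set G) := by
    intro g
    set u := g * t * g⁻¹ with hu
    have hu2 : orderOf u = 2 := by
      rw [hu, show g * t * g⁻¹ = MulAut.conj g t by rfl, MulEquiv.orderOf_eq, ht]
    have huu : u * u = 1 := by rw [← sq, ← hu2, pow_orderOf_eq_one]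
    set c := u * t with hcdef
    have hcC : c ∈ C := by
      rw [hC, Subgroup.mem_centralizer_iff]
      intro a ha
      have e : c * a * c⁻¹ = a := by
        rw [show c * a * c⁻¹ = u * (t * a * t⁻¹) * u⁻¹ by rw [hcdef]; group, hinv t ht a ha,
          hinv u hu2 _ (inv_mem ha), inv_inv]
      exact (mul_inv_eq_iff_eq_mul.1 e).symm
    have ho : Odd (orderOf c) :=
      Odd.of_dvd_nat hCodd (Subgroup.orderOf_dvd_natCard C hcC)
    obtain ⟨k, hk⟩ := ho
    set d := c ^ (k + 1) with hd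
    have hd2 : d * d = c := by
      rw [hd, ← pow_add, show k + 1 + (k + 1) = orderOf c + 1 by omega, pow_succ, pow_orderOf_eq_one,
        one_mul]
    have htc : t * c * t⁻¹ = c⁻¹ := by
      rw [hcdef, mul_inv_rev, hti, inv_eq_of_mul_eq_one_right huu, mul_assoc, mul_assoc, htt, mul_one]
    have htd : t * d * t⁻¹ = d⁻¹ := by
      rw [hd, ← conj_pow, htc, inv_pow]
    refine ⟨d, C.pow_mem hcC _, ?_⟩
    rw [Subgroup.mem_centralizer_singleton_iff]
    have e1 : d * t = c * (t * d * t⁻¹)⁻¹⁻¹ * t := by rw [htd, inv_inv, ← hd2, mul_inv_cancel_right]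
    have e2 : d * t * d⁻¹ = u := by
      calc d * t * d⁻¹ = d * (t * d⁻¹ * t⁻¹) * t := by group
        _ = d * (t * d * t⁻¹)⁻¹ * t := by group
        _ = c * t := by rw [htd, inv_inv, hd2]
        _ = u := by rw [hcdef, mul_assoc, htt, mul_one]
    calc d⁻¹ * g * t = d⁻¹ * u * g := by rw [hu]; group
      _ = t * (d⁻¹ * g) := by rw [← e2]; group
  have hidx : ¬ p ∣ C.index := by
    intro hd
    have hsurj : Function.Surjective
        ((QuotientGroup.mk' C).comp (Subgroup.centralizer ({t} : Set G)).subtype) := by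
      intro y
      obtain ⟨g, rfl⟩ := QuotientGroup.mk'_surjective C y
      obtain ⟨d, hd, hdg⟩ := hcover g
      refine ⟨⟨d⁻¹ * g, hdg⟩, ?_⟩
      show QuotientGroup.mk' C (d⁻¹ * g) = _
      rw [map_mul, map_inv, show QuotientGroup.mk' C d = 1 from (QuotientGroup.eq_one_iff d).2 hd,
        inv_one, one_mul]
    have hdvd := hd.trans (Subgroup.card_dvd_of_surjective _ hsurj)
    obtain ⟨z, hz⟩ := exists_prime_orderOf_dvd_card' p hdvd
    rw [← Subgroup.orderOf_coe] at hz
    exact h.not_comm ht (fun e => by rw [e, orderOf_one] at hz; exact h.prime.ne_one hz.symm)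
      ⟨1, by rw [hz, pow_one]⟩ (Subgroup.mem_centralizer_singleton_iff.1 z.2).symm
  refine ⟨?_, ?_⟩
  · haveI : Group.IsSolvable C := S0205.result hCodd
    refine Fus.ResSeries.isPSolvable_extension _ G le_rfl C
      (Fus.TransOdd.isPSolvable_of_solvable h.prime _ C rfl inferInstance) ?_
    exact S1950.isPSolvable_of_card _ (Or.inr ((h.prime.coprime_iff_not_dvd.2 hidx).symm))
  · obtain ⟨l, hl⟩ : ∃ l : N →* ℂˣ, l ⟨x, hx⟩ ≠ 1 := by
      by_contra hne
      push Not at hne
      exact hx1 (Char.eq_one_of_forall_linear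
        (fun a b => Subtype.ext (hNab a a.2 b b.2)) hne)
    obtain ⟨χ, hχ⟩ := Block.DegreeRel.exists_over (G := G) (Char.OneSeen.linIrr l)
    refine ⟨χ, ?_⟩
    set T := Char.inertia N ((Char.OneSeen.linIrr l : IrrCharacter N) : N → ℂ) with hT
    have hTodd : Odd (Nat.card T) := by
      rw [← Nat.not_even_iff_odd, even_iff_two_dvd]
      intro h2
      obtain ⟨s, hs⟩ := exists_prime_orderOf_dvd_card' 2 h2
      rw [← Subgroup.orderOf_coe] at hs
      have he := congrFun ((Char.mem_inertia N).1 s.2) ⟨x, hx⟩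
      simp only [Char.OneSeen.linIrr, Char.conjN] at he
      have e : (⟨(s : G) * x * (s : G)⁻¹, hN.conj_mem x hx s⟩ : N) = ⟨x, hx⟩⁻¹ :=
        Subtype.ext (hinv _ hs x hx)
      rw [e, Units.val_inj, map_inv] at he
      have hsq : l (⟨x, hx⟩ * ⟨x, hx⟩) = 1 := by
        rw [map_mul]
        nth_rw 1 [← he]
        exact inv_mul_cancel _
      have ho : Odd (orderOf (l ⟨x, hx⟩)) :=
        Odd.of_dvd_nat (hoddN x hx) (by rw [← Subgroup.orderOf_mk x hx]; exact orderOf_map_dvd l _)
      rw [map_mul] at hsq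
      refine hl (orderOf_eq_one_iff.1 ?_)
      have hd : orderOf (l ⟨x, hx⟩) ∣ 2 := orderOf_dvd_of_pow_eq_one (by rw [sq, hsq])
      rcases (Nat.dvd_prime Nat.prime_two).1 hd with e' | e'
      · exact e'
      · rw [e'] at ho; exact absurd ho (by decide)
    obtain ⟨n, hn⟩ := charDeg_dvd χ
    obtain ⟨m, hm⟩ := orbit_dvd hχ
    have hG := T.card_mul_index
    have hn0 : n ≠ 0 := by
      rintro rfl
      exact Nat.card_pos.ne' (hn.trans (mul_zero _))
    have hd0 := (charDeg_pos χ).ne'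
    have hc : (Nat.card G).factorization 2 = T.index.factorization 2 := by
      rw [← hG, Nat.factorization_mul Nat.card_pos.ne' T.index_ne_zero_of_finite, Finsupp.add_apply,
        Nat.factorization_eq_zero_of_not_dvd fun h2 =>
          (Nat.not_even_iff_odd.2 hTodd) (even_iff_two_dvd.2 h2), zero_add]
    have h1 : T.index.factorization 2 ≤ (charDegree (χ : G → ℂ)).factorization 2 :=
      (Nat.factorization_le_iff_dvd T.index_ne_zero_of_finite hd0).2 ⟨m, hm⟩ 2
    have h2 : (charDegree (χ : G → ℂ)).factorization 2 ≤ (Nat.card G).factorization 2 :=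
      (Nat.factorization_le_iff_dvd hd0 Nat.card_pos.ne').2 ⟨n, hn⟩ 2
    omega

/-- The orbits of a Sylow `2`-subgroup of a point stabiliser. -/
theorem Hyp.two_pow_dvd (h : Hyp G Ω p r) (N : Subgroup G) [N.Normal] (hNe : 2 ∣ Nat.card N)
    {a : ℕ} (ha : 2 ^ a ∣ Nat.card N) : 2 ^ a ∣ p ^ r - 1 := by
  classical
  haveI : Fact (Nat.Prime 2) := ⟨Nat.prime_two⟩
  obtain ⟨ω⟩ : Nonempty Ω := Fintype.card_pos_iff.1 (h.deg ▸ pow_pos h.prime.pos r)
  obtain ⟨hidx, -⟩ := (h.stronglyEmbedded N hNe).2 ω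
  set K := MulAction.stabilizer N ω
  have haK : 2 ^ a ∣ Nat.card K := by
    rw [← K.card_mul_index, hidx] at ha
    exact ((((Nat.coprime_primes Nat.prime_two h.prime).2 h.odd.symm).pow_right r).pow_left a
      ).dvd_of_dvd_mul_right ha
  obtain ⟨S, hS⟩ := Sylow.exists_subgroup_card_pow_prime 2 haK
  have hSp : IsPGroup 2 S := IsPGroup.of_card hS
  haveI := Fintype.ofFinite S
  haveI : ∀ s : S, Fintype (MulAction.fixedBy Ω s) := fun s => Fintype.ofFinite _
  haveI := Fintype.ofFinite (Quotient (MulAction.orbitRel S Ω))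
  have hburn := MulAction.sum_card_fixedBy_eq_card_orbits_mul_card_group S Ω
  have hone : ∀ s : S, s ≠ 1 → Fintype.card (MulAction.fixedBy Ω s) = 1 := by
    intro s hs
    obtain ⟨k, hk⟩ := hSp.exists_orderOf_eq_pow s
    obtain ⟨j, rfl⟩ : ∃ j, k = j + 1 := Nat.exists_eq_succ_of_ne_zero (by
      rintro rfl
      exact hs (orderOf_eq_one_iff.1 (by simpa using hk)))
    have hu : orderOf (s ^ 2 ^ j) = 2 := by
      rw [orderOf_pow' s (pow_ne_zero _ two_ne_zero), hk,
        Nat.gcd_eq_right (pow_dvd_pow 2 (Nat.le_succ j)), pow_succ,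
        Nat.mul_div_cancel_left _ (pow_pos two_pos _)]
    set u := s ^ 2 ^ j with hu'
    have hu2 : orderOf (((u : K) : N) : G) = 2 := by
      rw [Subgroup.orderOf_coe, Subgroup.orderOf_coe, Subgroup.orderOf_coe, hu]
    obtain ⟨w, -, huniq⟩ := h.fix_unique hu2
    have hfixω : ∀ x : S, x • ω = ω := fun x => (x : K).2
    refine Fintype.card_eq_one_iff.2 ⟨⟨ω, hfixω s⟩, fun w' => Subtype.ext ?_⟩
    have hw' : u • (w' : Ω) = w' := by
      have hs' : s ∈ MulAction.stabilizer S (w' : Ω) := w'.2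
      exact (MulAction.stabilizer S (w' : Ω)).pow_mem hs' _
    exact (huniq _ hw').trans (huniq _ (hfixω u)).symm
  rw [← Finset.add_sum_erase _ _ (Finset.mem_univ (1 : S)),
    Finset.sum_congr rfl fun s hs => hone s (Finset.ne_of_mem_erase hs), Finset.sum_const,
    Finset.card_erase_of_mem (Finset.mem_univ _), Finset.card_univ, smul_eq_mul, mul_one,
    ← Nat.card_eq_fintype_card (α := S), hS,
    show Fintype.card (MulAction.fixedBy Ω (1 : S)) = p ^ r by
      rw [← h.deg]
      exact Fintype.card_congr (Equiv.subtypeUnivEquiv fun w => one_smul S w)] at hburn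
  have hp1 : 1 ≤ p ^ r := Nat.one_le_pow _ _ h.prime.pos
  have h1 : 1 ≤ 2 ^ a := Nat.one_le_pow _ _ two_pos
  refine ⟨Fintype.card (Quotient (MulAction.orbitRel S Ω)) - 1, ?_⟩
  rw [Nat.mul_sub, mul_one, mul_comm, ← hburn]
  omega

/-- Without abelian normal subgroups a minimal normal subgroup is simple and transitive. -/
theorem Hyp.simple_case (h : Hyp G Ω p r)
    (hno : ∀ A : Subgroup G, A.Normal → IsPGroup p A → A = ⊥) :
    ∃ N : Subgroup G, N.Normal ∧ 2 ∣ Nat.card N ∧ IsSimpleGroup N ∧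
      ∃ a b : N, a * b ≠ b * a := by
  classical
  haveI := h.tr
  haveI := h.faith
  have hGne : (⊤ : Subgroup G) ≠ ⊥ := by
    intro e
    have h2 := h.even
    rw [← Subgroup.card_top, e, Subgroup.card_bot] at h2
    omega
  -- the order of a nontrivial subnormal subgroup is divisible by `p`
  have hp_dvd : ∀ (N : Subgroup G) (T : Subgroup N), N.Normal → T.Normal → T ≠ ⊥ →
      (∀ ω ω' : Ω, ∃ n ∈ N, n • ω = ω') → p ∣ Nat.card T := by
    intro N T hN hT hT1 htrN
    haveI := hT
    haveI : MulAction.IsPretransitive N Ω := ⟨fun a b => by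
      obtain ⟨n, hn, e⟩ := htrN a b; exact ⟨⟨n, hn⟩, e⟩⟩
    obtain ⟨⟨y, hy⟩, hy1⟩ := T.ne_bot_iff_exists_ne_one.1 hT1
    obtain ⟨w, hw⟩ : ∃ w : Ω, y • w ≠ w := by
      by_contra hall
      push Not at hall
      refine hy1 (Subtype.ext (Subtype.ext ?_))
      exact FaithfulSMul.eq_of_smul_eq_smul (α := Ω) fun w => (hall w).trans (one_smul G w).symm
    have hdvd : (MulAction.stabilizer N w).relIndex T ∣ p ^ r := by
      rw [← h.deg, ← Nat.card_eq_fintype_card,
        ← MulAction.index_stabilizer_of_transitive (G := N) w]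
      exact relIndex_dvd_index _ T
    obtain ⟨k, -, hk⟩ := (Nat.dvd_prime_pow h.prime).1 hdvd
    rcases k with _ | k
    · rw [pow_zero, Subgroup.relIndex_eq_one] at hk
      exact absurd (MulAction.mem_stabilizer_iff.1 (hk hy)) hw
    · exact ((dvd_pow_self p k.succ_ne_zero).trans hk.symm.dvd).trans (Subgroup.relIndex_dvd_card _ _)
  obtain ⟨N, hN, hN1, -, hmin⟩ := Grp.exists_minimal_normal_le (N := (⊤ : Subgroup G)) hGne
  haveI := hN
  have hNe : 2 ∣ Nat.card N := by
    by_contra h2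
    have hodd : Odd (Nat.card N) := Nat.not_even_iff_odd.1 fun e => h2 (even_iff_two_dvd.1 e)
    haveI : Group.IsSolvable N := S0205.result hodd
    haveI : Nontrivial N := (Subgroup.nontrivial_iff_ne_bot N).2 hN1
    have hlt := Group.IsSolvable.commutator_lt_top_of_nontrivial N
    have hd : (commutator N).map N.subtype = ⊥ := by
      rcases hmin ((commutator N).map N.subtype) inferInstance (Subgroup.map_subtype_le _) with e | e
      · exact e
      · exfalso
        refine hlt.ne (Subgroup.map_injective N.subtype_injective ?_)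
        rw [e, ← MonoidHom.range_eq_map, Subgroup.range_subtype]
    rw [Subgroup.map_eq_bot_iff_of_injective _ N.subtype_injective] at hd
    have hab : ∀ a b : N, a * b = b * a := fun a b => commutatorElement_eq_one_iff_mul_comm.1
      ((Subgroup.eq_bot_iff_forall _).1 hd _ (Subgroup.commutator_mem_commutator
        (Subgroup.mem_top a) (Subgroup.mem_top b)))
    -- an odd abelian normal subgroup
    haveI : IsMulCommutative N := ⟨⟨hab⟩⟩
    obtain ⟨Q⟩ : Nonempty (Sylow p N) := inferInstance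
    haveI : (Q : Subgroup N).Normal := ⟨fun n hn g => by
      rwa [hab g n, mul_inv_cancel_right]⟩
    haveI : (Q : Subgroup N).Characteristic := Q.characteristic_of_normal inferInstance
    have hQ := hno ((Q : Subgroup N).map N.subtype) inferInstance (Q.isPGroup'.map _)
    rw [Subgroup.map_eq_bot_iff_of_injective _ N.subtype_injective] at hQ
    -- so `p` does not divide its order
    have hpN : ¬ p ∣ Nat.card N := fun hd' => Q.ne_bot_of_dvd_card hd' hQ
    obtain ⟨⟨y, hy⟩, hy1⟩ := N.ne_bot_iff_exists_ne_one.1 hN1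
    obtain ⟨w, hw⟩ : ∃ w : Ω, y • w ≠ w := by
      by_contra hall
      push Not at hall
      exact hy1 (Subtype.ext (FaithfulSMul.eq_of_smul_eq_smul (α := Ω)
        fun w => (hall w).trans (one_smul G w).symm))
    have hd' : (MulAction.stabilizer G w).relIndex N ∣ p ^ r :=
      h.index_stab w ▸ relIndex_dvd_index _ N
    obtain ⟨k, -, hk⟩ := (Nat.dvd_prime_pow h.prime).1 hd'
    rcases k with _ | k
    · rw [pow_zero, Subgroup.relIndex_eq_one] at hk
      exact hw (MulAction.mem_stabilizer_iff.1 (hk hy))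
    · exact hpN (((dvd_pow_self p k.succ_ne_zero).trans hk.symm.dvd).trans
        (Subgroup.relIndex_dvd_card _ _))
  obtain ⟨htrN, -⟩ := h.stronglyEmbedded N hNe
  haveI : Nontrivial N := (Subgroup.nontrivial_iff_ne_bot N).2 hN1
  -- the order of a nontrivial normal subgroup of `N` is even
  have heven : ∀ T : Subgroup N, T.Normal → T ≠ ⊥ → 2 ∣ Nat.card T := by
    intro T hT hT1
    by_contra h2
    have hle : T ≤ pPrimeCore 2 N :=
      Grp.le_pPrimeCore hT ((Nat.prime_two.coprime_iff_not_dvd.2 h2).symm)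
    haveI : (pPrimeCore 2 N).Normal := Grp.pPrimeCore_isNormal
    rcases hmin _ (inferInstance : ((pPrimeCore 2 N).map N.subtype).Normal)
        (Subgroup.map_subtype_le _) with e | e
    · rw [Subgroup.map_eq_bot_iff_of_injective _ N.subtype_injective] at e
      exact hT1 (le_bot_iff.1 (e ▸ hle))
    · have : pPrimeCore 2 N = ⊤ := Subgroup.map_injective N.subtype_injective
        (by rw [e, ← MonoidHom.range_eq_map, Subgroup.range_subtype])
      have hc : (Nat.card (pPrimeCore 2 N)).Coprime 2 := Grp.pPrimeCore_coprime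
      rw [this, Subgroup.card_top] at hc
      exact (Nat.prime_two.coprime_iff_not_dvd.1 hc.symm) hNe
  -- two of them meet
  have hmeet : ∀ S T : Subgroup N, S.Normal → T.Normal → S ≠ ⊥ → T ≠ ⊥ → S ⊓ T ≠ ⊥ := by
    intro S T hS hT hS1 hT1 hbot
    obtain ⟨s, hs⟩ := exists_prime_orderOf_dvd_card' 2 (heven S hS hS1)
    obtain ⟨z, hz⟩ := exists_prime_orderOf_dvd_card' p (hp_dvd N T hN hT hT1 htrN)
    rw [← Subgroup.orderOf_coe, ← Subgroup.orderOf_coe] at hs hz
    have hc : Commute (s : N) (z : N) := Subgroup.commute_of_normal_of_disjoint S T hS hT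
      (disjoint_iff.2 hbot) _ _ s.2 z.2
    exact h.not_comm hs (fun e => by rw [e, orderOf_one] at hz; exact h.prime.ne_one hz.symm)
      ⟨1, by rw [hz, pow_one]⟩ (congrArg Subtype.val hc.eq :)
  obtain ⟨M, hM, hM1, -, hMmin⟩ :=
    Grp.exists_minimal_normal_le (G := N) (N := (⊤ : Subgroup N)) top_ne_bot
  have huniq : ∀ S : Subgroup N, S.Normal → S ≠ ⊥ → M ≤ S := by
    intro S hS hS1
    haveI := hS
    haveI := hM
    rcases hMmin (M ⊓ S) inferInstance inf_le_left with e | e
    · exact absurd e (hmeet M S hM hS hM1 hS1)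
    · exact inf_eq_left.1 e
  haveI : M.Characteristic := by
    refine Subgroup.characteristic_iff_map_le.2 fun e => ?_
    have hn : (M.map e.toMonoidHom).Normal := Subgroup.Normal.map hM _ e.surjective
    have hne : M.map e.toMonoidHom ≠ ⊥ := fun e' =>
      hM1 ((Subgroup.map_eq_bot_iff_of_injective M (f := e.toMonoidHom) e.injective).1 e')
    exact (Subgroup.eq_of_le_of_card_ge (huniq _ hn hne)
      (Subgroup.card_map_of_injective e.injective).le).ge
  have hMtop : M = ⊤ := by
    rcases hmin _ (inferInstance : (M.map N.subtype).Normal) (Subgroup.map_subtype_le _) with e | e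
    · exact absurd ((Subgroup.map_eq_bot_iff_of_injective M N.subtype_injective).1 e) hM1
    · exact Subgroup.map_injective N.subtype_injective
        (by rw [e, ← MonoidHom.range_eq_map, Subgroup.range_subtype])
  haveI hsimple : IsSimpleGroup N := ⟨fun K hK => by
    by_cases hK1 : K = ⊥
    · exact Or.inl hK1
    · exact Or.inr (top_le_iff.1 (hMtop ▸ huniq K hK hK1))⟩
  refine ⟨N, hN, hNe, hsimple, ?_⟩
  by_contra hab
  push Not at hab
  obtain ⟨z, hz⟩ := exists_prime_orderOf_dvd_card' p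
    (hp_dvd N ⊤ hN inferInstance top_ne_bot htrN)
  obtain ⟨s, hs⟩ := exists_prime_orderOf_dvd_card' 2 hNe
  rw [← Subgroup.orderOf_coe, ← Subgroup.orderOf_coe] at hz
  rw [← Subgroup.orderOf_coe] at hs
  exact h.not_comm hs (fun e => by rw [e, orderOf_one] at hz; exact h.prime.ne_one hz.symm)
    ⟨1, by rw [hz, pow_one]⟩ (congrArg Subtype.val (hab s z) :)

/-- A prime power in `1 + q³ℕ` dividing `(q + 1)² (q - 1) (q² - q + 1)`. -/
theorem not_dvd_unitary {p r q M : ℕ} (hp : p.Prime) (hM : M = p ^ r) (hq : 4 ≤ q)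
    (hqe : Even q)
    (hle : q ^ 3 + 1 ≤ M) : ¬ M ∣ (q + 1) * (q + 1) * ((q - 1) * (q * q - q + 1)) := by
  intro hd
  obtain ⟨k, rfl⟩ : ∃ k, q = k + 1 := ⟨q - 1, by omega⟩
  have hA : (k + 1) * (k + 1) - (k + 1) + 1 = k * k + k + 1 := by
    have : (k + 1) * (k + 1) = k * k + k + (k + 1) := by ring
    omega
  rw [hA, Nat.add_sub_cancel] at hd
  have hcube : (k + 1) ^ 3 = k * k * k + 3 * (k * k) + 3 * k + 1 := by ring
  have hkk : 3 * k ≤ k * k := Nat.mul_le_mul_right k (by omega)
  have hkkk : 3 * (k * k) ≤ k * k * k := by rw [mul_comm (k * k) k]; exact Nat.mul_le_mul_right _ (by omega)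
  by_cases hp1 : p ∣ k + 1 + 1
  · by_cases hp3 : p = 3
    · subst hp3
      obtain ⟨j, hj⟩ : ∃ j, k = 3 * j + 1 := ⟨k / 3, by omega⟩
      have hA3 : k * k + k + 1 = 3 * (3 * (j * j) + 3 * j + 1) := by rw [hj]; ring
      have hcop : M.Coprime (k * (3 * (j * j) + 3 * j + 1)) := by
        rw [hM]
        refine Nat.Coprime.pow_left r ((Nat.prime_three.coprime_iff_not_dvd).2 fun h => ?_)
        rcases Nat.prime_three.dvd_mul.1 h with h | h <;> omega
      have h1 : M ∣ 3 * ((k + 1 + 1) * (k + 1 + 1)) := by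
        refine hcop.dvd_of_dvd_mul_right ?_
        refine hd.trans (dvd_of_eq ?_)
        rw [hA3]; ring
      have := Nat.le_of_dvd (by positivity) h1
      have : (k + 1 + 1) * (k + 1 + 1) = k * k + 4 * k + 4 := by ring
      rcases eq_or_ne k 3 with rfl | hk3
      · omega
      have h4 : 4 * k ≤ k * k := Nat.mul_le_mul_right k (by omega)
      have h4' : 4 * (k * k) ≤ k * k * k := by
        rw [mul_comm (k * k) k]; exact Nat.mul_le_mul_right _ (by omega)
      omega
    · have hcop : M.Coprime (k * (k * k + k + 1)) := by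
        rw [hM]
        refine Nat.Coprime.pow_left r ((hp.coprime_iff_not_dvd).2 fun h => ?_)
        rcases hp.dvd_mul.1 h with h | h
        · have h2 : p ∣ 2 := by
            have := Nat.dvd_sub hp1 h
            rwa [show k + 1 + 1 - k = 2 by omega] at this
          have e := (Nat.prime_dvd_prime_iff_eq hp Nat.prime_two).1 h2
          subst e
          obtain ⟨c, hc⟩ := hqe
          omega
        · have h3 : p ∣ 3 := by
            have h' : k * k + k + 1 + (k + 1 + 1) = (k + 1 + 1) * k + 3 := by ring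
            have := Nat.dvd_sub ((dvd_add h hp1)) (hp1.mul_right k)
            rwa [h', Nat.add_sub_cancel_left] at this
          exact hp3 ((Nat.prime_dvd_prime_iff_eq hp Nat.prime_three).1 h3)
      have h1 := Nat.le_of_dvd (by positivity) (hcop.dvd_of_dvd_mul_right hd)
      have : (k + 1 + 1) * (k + 1 + 1) = k * k + 4 * k + 4 := by ring
      omega
  · have hcop : M.Coprime ((k + 1 + 1) * (k + 1 + 1)) := by
      rw [hM]
      exact Nat.Coprime.pow_left r (Nat.Coprime.mul_right ((hp.coprime_iff_not_dvd).2 hp1)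
        ((hp.coprime_iff_not_dvd).2 hp1))
    have h1 := Nat.le_of_dvd (Nat.mul_pos (by omega) (by omega)) (hcop.dvd_of_dvd_mul_left hd)
    have : k * (k * k + k + 1) = k * k * k + k * k + k := by ring
    omega

/-- A prime power dividing a product of coprime numbers divides a factor. -/
theorem pow_dvd_or {p r a b : ℕ} (hp : p.Prime) (hab : a.Coprime b) (h : p ^ r ∣ a * b) :
    p ^ r ∣ a ∨ p ^ r ∣ b := by
  by_cases ha : p ∣ a
  · refine Or.inl (Nat.Coprime.dvd_of_dvd_mul_right ((hp.coprime_iff_not_dvd.2 fun hb => ?_).pow_left r) h)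
    exact hp.not_dvd_one (hab ▸ Nat.dvd_gcd ha hb)
  · exact Or.inr (((hp.coprime_iff_not_dvd.2 ha).pow_left r).dvd_of_dvd_mul_left h)

/-- `4ᵏ + 1` (`k ≥ 3` odd) is not a prime power. -/
theorem four_pow_add_one_ne {p r k : ℕ} (hp : p.Prime) (hk : 3 ≤ k) (hodd : Odd k) :
    4 ^ k + 1 ≠ p ^ r := by
  intro e
  have h5 : 5 ∣ 4 ^ k + 1 := by simpa using hodd.nat_add_dvd_pow_add_pow 4 1
  obtain rfl : p = 5 :=
    ((Nat.prime_dvd_prime_iff_eq (by norm_num) hp).1 ((by norm_num : Nat.Prime 5).dvd_of_dvd_pow (e ▸ h5))).symm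
  have h8 : 4 ^ k % 8 = 0 := by
    obtain ⟨j, rfl⟩ : ∃ j, k = j + 2 := ⟨k - 2, by omega⟩
    rw [pow_add]
    simp [Nat.mul_mod]
  rcases Nat.even_or_odd' r with ⟨j, rfl | rfl⟩
  · have h3 : 4 ^ k % 3 = 1 := by rw [Nat.pow_mod]; simp
    have : 5 ^ (2 * j) % 3 = 1 := by rw [pow_mul, Nat.pow_mod]; simp
    omega
  · have : 5 ^ (2 * j + 1) % 8 = 5 := by rw [pow_succ, pow_mul, Nat.mul_mod, Nat.pow_mod]; simp
    omega

/-- The statement, from the classification of simple groups with a strongly embedded subgroup. -/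
theorem s4745_of
    (hB : ∀ (K : Type u) [Group K] [Finite K] [IsSimpleGroup K], (∃ a b : K, a * b ≠ b * a) →
      ∀ H : Subgroup K, IsStronglyEmbedded H →
      (∃ (F : Type) (_ : Field F) (_ : Fintype F), CharP F 2 ∧ 4 ≤ Fintype.card F ∧
        Nonempty (K ≃* Matrix.ProjectiveSpecialLinearGroup (Fin 2) F)) ∨ IsSuzuki K ∨
      (∃ (F : Type) (_ : Field F) (_ : Fintype F) (q : ℕ), Fintype.card F = q ^ 2 ∧ Even q ∧
        4 ≤ q ∧ Nonempty (K ≃* PSU 3 F q)))
    [FaithfulSMul G Ω] (htr : MulAction.IsPretransitive G Ω) (hp2 : p ≠ 2) (h2G : 2 ∣ Nat.card G)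
    (hC : ∀ g : G, g ≠ 1 → (∃ k : ℕ, orderOf g = p ^ k) →
      Odd (Nat.card ↥(Subgroup.centralizer ({g} : Set G))))
    (hr : 1 ≤ r) (hΩ : Fintype.card Ω = p ^ r) :
    (∃ χ : IrrCharacter G, (charDegree (χ : G → ℂ)).factorization p = (Nat.card G).factorization p) ∨
      (IsPSolvable p G ∧ ∃ χ : IrrCharacter G,
        (charDegree (χ : G → ℂ)).factorization 2 = (Nat.card G).factorization 2) := by
  classical
  by_cases hd : ∃ χ : IrrCharacter G,
      (charDegree (χ : G → ℂ)).factorization p = (Nat.card G).factorization p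
  · exact Or.inl hd
  have h : Hyp G Ω p r :=
    { faith := inferInstance, tr := htr, prime := Fact.out, odd := hp2, rpos := hr, deg := hΩ
      even := h2G, apart := hC, noDefectZero := hd }
  by_cases hA : ∃ A : Subgroup G, A.Normal ∧ IsPGroup p A ∧ A ≠ ⊥
  · obtain ⟨A, hAn, hAp, hA1⟩ := hA
    exact Or.inr (h.abelian_case A hA1 hAp)
  push Not at hA
  exfalso
  obtain ⟨N, hN, hNe, hsimple, hna⟩ := h.simple_case hA
  obtain ⟨ω⟩ : Nonempty Ω := Fintype.card_pos_iff.1 (h.deg ▸ pow_pos h.prime.pos r)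
  obtain ⟨hidx, hSE⟩ := (h.stronglyEmbedded N hNe).2 ω
  have hM : p ^ r ∣ Nat.card N := hidx ▸ Subgroup.index_dvd_card _
  have hM1 : 1 < p ^ r := Nat.one_lt_pow (by omega) h.prime.one_lt
  have hpowN : ∀ a : ℕ, 2 ^ a ∣ Nat.card N → 2 ^ a + 1 ≤ p ^ r ∧ (2 ^ a).Coprime (p ^ r) := by
    intro a ha
    have := Nat.le_of_dvd (by omega) (h.two_pow_dvd N hNe ha)
    exact ⟨by omega, ((Nat.coprime_primes Nat.prime_two h.prime).2 hp2.symm).pow _ _⟩
  rcases hB N hna _ hSE with ⟨F, iF, iF', hc2, h4, ⟨e⟩⟩ | ⟨-, m, hm, hcard⟩ |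
    ⟨F, iF, iF', q, hF, hq, h4, ⟨e⟩⟩
  · -- the linear groups
    obtain ⟨n, -, hn⟩ := FiniteField.card F 2
    have hcard : Nat.card N = Fintype.card F * ((Fintype.card F - 1) * (Fintype.card F + 1)) := by
      rw [Nat.card_congr e.toEquiv, Invol.RegInv.card_PSL2]
    obtain ⟨hle, hcop⟩ := hpowN n (by rw [hcard, hn]; exact dvd_mul_right _ _)
    rw [hcard, hn] at hM
    have h1 := hcop.symm.dvd_of_dvd_mul_left hM
    have hle' : p ^ r = 2 ^ (n : ℕ) + 1 := by
      have hp1 : Nat.Coprime (2 ^ (n : ℕ) - 1) (2 ^ (n : ℕ) + 1) := by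
        rw [show 2 ^ (n : ℕ) + 1 = 2 + (2 ^ (n : ℕ) - 1) by omega, Nat.coprime_add_self_right,
          Nat.coprime_two_right]
        exact Nat.Even.sub_odd (by omega) (Nat.even_pow.2 ⟨even_two, n.pos.ne'⟩) odd_one
      rcases pow_dvd_or h.prime hp1 h1 with hcase | hcase
      · have := Nat.le_of_dvd (by omega) hcase
        omega
      · exact le_antisymm (Nat.le_of_dvd (by omega) hcase) hle
    have hnd : ¬ (Fintype.card F - 1) ∣ 4 := by
      intro hd'
      rw [hn] at hd' h4
      have h3 : 2 ^ (n : ℕ) - 1 ≤ 4 := Nat.le_of_dvd (by norm_num) hd'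
      have : (n : ℕ) = 2 := by
        rcases Nat.lt_or_ge (n : ℕ) 3 with hn3 | hn3
        · interval_cases hnv : (n : ℕ) <;> omega
        · have := Nat.pow_le_pow_right two_pos hn3; omega
      rw [this] at hd'
      norm_num at hd'
    obtain ⟨ψ, hψ⟩ := (Block.SL2Char.degrees_S (S := N) (Or.inl ⟨e⟩)).2.2.1 hnd
    haveI := Fintype.ofFinite G
    haveI := Fintype.ofFinite N
    obtain ⟨χ, hχ⟩ := Block.DegreeRel.exists_over (G := G) ψ
    refine hd ⟨χ, ?_⟩
    have hdvd := deg_dvd hχ
    rw [hψ, hn, ← hle'] at hdvd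
    obtain ⟨c, hc⟩ := charDeg_dvd χ
    have h1' := (Nat.factorization_le_iff_dvd (pow_ne_zero r h.prime.ne_zero) (charDeg_pos χ).ne').2 hdvd p
    rw [h.prime.factorization_pow, Finsupp.single_eq_same] at h1'
    have h2' := (Nat.factorization_le_iff_dvd (charDeg_pos χ).ne' Nat.card_pos.ne').2 ⟨c, hc⟩ p
    rw [h.factorization_card] at h2' ⊢
    omega
  · -- the Suzuki groups
    set Q := 2 ^ (2 * m + 1) with hQ
    have hQ2 : Q ^ 2 = 2 ^ (2 * (2 * m + 1)) := by rw [hQ, ← pow_mul, mul_comm]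
    obtain ⟨hle, hcop⟩ := hpowN (2 * (2 * m + 1)) (by rw [hcard, ← hQ2, mul_assoc]; exact dvd_mul_right _ _)
    rw [← hQ2] at hle hcop
    rw [hcard, mul_assoc] at hM
    have h1 := hcop.symm.dvd_of_dvd_mul_left hM
    have hQ8 : 8 ≤ Q := by
      have := Nat.pow_le_pow_right two_pos (show 3 ≤ 2 * m + 1 by omega)
      omega
    have hp1 : Nat.Coprime (Q ^ 2 + 1) (Q - 1) := by
      have e : Q ^ 2 + 1 = 2 + (Q + 1) * (Q - 1) := by
        have : (Q + 1) * (Q - 1) = Q ^ 2 - 1 := by rw [← Nat.sq_sub_sq, one_pow]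
        have : 1 ≤ Q ^ 2 := Nat.one_le_pow _ _ (by omega)
        omega
      rw [e, Nat.coprime_add_mul_right_left, Nat.coprime_two_left]
      exact Nat.Even.sub_odd (by omega) (Nat.even_pow.2 ⟨even_two, by omega⟩) odd_one
    rcases pow_dvd_or h.prime hp1 h1 with hcase | hcase
    · have h2 := le_antisymm (Nat.le_of_dvd (by positivity) hcase) hle
      refine four_pow_add_one_ne (r := r) h.prime (k := 2 * m + 1) (by omega) ⟨m, rfl⟩ ?_
      rw [h2, hQ2, pow_mul]
      norm_num
    · have := Nat.le_of_dvd (by omega) hcase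
      have : Q ≤ Q ^ 2 := Nat.le_self_pow two_ne_zero _
      omega
  · -- the unitary groups
    obtain ⟨p', hc⟩ := CharP.exists F
    haveI : Fact p'.Prime := ⟨CharP.char_is_prime F p'⟩
    obtain ⟨k, hk'⟩ := FiniteField.card F p'
    obtain rfl : p' = 2 := by
      have h2 : 2 ∣ p' ^ (k : ℕ) := by
        rw [← hk'.2, hF]; exact (dvd_pow (even_iff_two_dvd.1 hq) two_ne_zero)
      exact ((Nat.prime_dvd_prime_iff_eq Nat.prime_two Fact.out).1
        (Nat.prime_two.dvd_of_dvd_pow h2)).symm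
    obtain ⟨j, -, hj⟩ := (Nat.dvd_prime_pow Nat.prime_two).1
      (show q ∣ 2 ^ (k : ℕ) from hk'.2 ▸ hF ▸ dvd_pow_self q two_ne_zero)
    have hSU := Classical.UnitMult.natCard_SU3 hF
    have hdvd : q ^ 3 ∣ Nat.card N := by
      rw [Nat.card_congr e.toEquiv]
      have hSU' : q ^ 3 ∣ Nat.card (SU 3 F q) := by
        rw [hSU, mul_assoc]; exact dvd_mul_right _ _
      rw [Subgroup.card_eq_card_quotient_mul_card_subgroup (Subgroup.center (SU 3 F q))] at hSU'
      refine Nat.Coprime.dvd_of_dvd_mul_right ?_ hSU'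
      rw [Classical.natCard_center_SU hF (by norm_num)]
      refine Nat.Coprime.coprime_dvd_right (Nat.gcd_dvd_right _ _) ?_
      exact (Nat.coprime_self_add_right.2 (Nat.coprime_one_right q)).pow_left 3
    obtain ⟨hle, hcop⟩ := hpowN (j * 3) (by rw [pow_mul, ← hj]; exact hdvd)
    rw [pow_mul, ← hj] at hle hcop
    have hN' : Nat.card N ∣ Nat.card (SU 3 F q) := by
      rw [Nat.card_congr e.toEquiv]
      exact Subgroup.card_quotient_dvd_card _
    have h1 := hM.trans hN'
    rw [hSU, mul_assoc] at h1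
    have h2 := hcop.symm.dvd_of_dvd_mul_left h1
    refine not_dvd_unitary h.prime rfl h4 hq hle (h2.trans (dvd_of_eq ?_))
    obtain ⟨l, rfl⟩ : ∃ l, q = l + 1 := ⟨q - 1, by omega⟩
    have e1 : (l + 1) * (l + 1) - (l + 1) + 1 = l * l + l + 1 := by
      have : (l + 1) * (l + 1) = l * l + l + (l + 1) := by ring
      omega
    have e2 : (l + 1) ^ 2 - 1 = l * l + 2 * l := by
      have : (l + 1) ^ 2 = l * l + 2 * l + 1 := by ring
      omega
    rw [e1, e2, Nat.add_sub_cancel]
    ring

end Cfsg.Agent.Block.PPowerTrans
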